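import Groth.Agent.EtSh.Pull
import Groth.Prelude.Def_SGA4b

/-! # Stalks of inverse images of etale sheaves of sets -/

set_option autoImplicit false
set_option linter.all false
set_option backward.isDefEq.respectTransparency false
set_option backward.defeqAttrib.useBackward true

noncomputable section

universe u

open CategoryTheory CategoryTheory.Limits AlgebraicGeometry Opposite

namespace Groth.Agent.EtShSet

open Groth.Agent.EtSh (comapPointIso fibBC Fib fpt hom_fpt map_fpt exists_fib exists_fib_map mem_topology_iff exists_geometric_point)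

/-- the stalk functor on sheaves of sets -/
abbrev stalk {S : Scheme.{u}} {Ω : Type u} [Field Ω] [IsSepClosed Ω] (ξ : Spec (CommRingCat.of Ω) ⟶ S) :
    EtDesc.Sh S ⥤ Type (u + 1) :=
  (Scheme.pointSmallEtale ξ).sheafFiber (A := Type (u + 1))

section

variable {X : Scheme.{u}}

instance : PreservesFilteredColimitsOfSize.{u, u} (forget (Type (u + 1))) :=
  preservesFilteredColimitsOfSize_shrink.{u, u + 1, u, u + 1} _

section Point

variable {Ω : Type u} [Field Ω] [IsSepClosed Ω] (ξ : Spec (CommRingCat.of Ω) ⟶ X)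

/-- the germ of a section at a lifting of the geometric point -/
noncomputable def germ (F : EtDesc.Sh X) {U : X.Etale} (t : Fib ξ U) :
    F.obj.obj (op U) ⟶ (stalk ξ).obj F :=
  (Scheme.pointSmallEtale ξ).toPresheafFiber U t F.obj

variable {ξ}

theorem germ_map (F : EtDesc.Sh X) {U V : X.Etale} (g : V ⟶ U) (t : Fib ξ V) (s : EtDesc.sect F U) :
    germ ξ F t (F.obj.map g.op s) = germ ξ F ((Scheme.pointSmallEtale ξ).fiber.map g t) s :=
  (Scheme.pointSmallEtale ξ).toPresheafFiber_w_apply g t F.obj s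

theorem stalk_map_germ {F G : EtDesc.Sh X} (α : F ⟶ G) {U : X.Etale} (t : Fib ξ U) (s : EtDesc.sect F U) :
    (stalk ξ).map α (germ ξ F t s) = germ ξ G t (α.hom.app (op U) s) :=
  (Scheme.pointSmallEtale ξ).toPresheafFiber_naturality_apply α.hom U t s

theorem germ_surjective (F : EtDesc.Sh X) (p : ToType ((stalk ξ).obj F)) :
    ∃ (U : X.Etale) (t : Fib ξ U) (s : EtDesc.sect F U), germ ξ F t s = p :=
  GrothendieckTopology.Point.toPresheafFiber_jointly_surjective (A := Type (u + 1)) (P := F.obj) (Scheme.pointSmallEtale ξ) p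

theorem germ_eq_iff (F : EtDesc.Sh X) {U : X.Etale} (t : Fib ξ U) (s s' : EtDesc.sect F U) :
    germ ξ F t s = germ ξ F t s' ↔
      ∃ (W : X.Etale) (g : W ⟶ U) (w : W.left), g.left.base w = fpt t ∧
        F.obj.map g.op s = F.obj.map g.op s' := by
  refine (GrothendieckTopology.Point.toPresheafFiber_eq_iff' (P := F.obj) (Scheme.pointSmallEtale ξ) U t s s').trans ⟨?_, ?_⟩
  · rintro ⟨W, g, w, rfl, h⟩
    exact ⟨W, g, fpt w, rfl, h⟩
  · rintro ⟨W, g, w, hw, h⟩
    obtain ⟨v, hv⟩ := exists_fib_map g w t hw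
    exact ⟨W, g, v, hv, h⟩

end Point

/-- sections agree as soon as they agree locally -/
theorem sect_ext (F : EtDesc.Sh X) {U : X.Etale} {s s' : EtDesc.sect F U}
    (h : ∀ x : U.left, ∃ (W : X.Etale) (g : W ⟶ U) (w : W.left), g.left.base w = x ∧
      F.obj.map g.op s = F.obj.map g.op s') : s = s' := by
  let R : Sieve U :=
    { arrows := fun W g => F.obj.map g.op s = F.obj.map g.op s'
      downward_closed := fun {W V} g hg k => by
        rw [op_comp, Functor.map_comp, ConcreteCategory.comp_apply, ConcreteCategory.comp_apply, hg] }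
  have hR : R ∈ X.smallEtaleTopology U := (mem_topology_iff R).2 fun x => by
    obtain ⟨W, g, w, hw, hg⟩ := h x
    exact ⟨W, g, w, hg, hw⟩
  exact (((isSheaf_iff_isSheaf_of_type _ _).1 F.property).isSeparated _ hR).ext
      fun W g hg => hg

theorem sect_ext_germ (F : EtDesc.Sh X) {U : X.Etale} {s s' : EtDesc.sect F U}
    (h : ∀ (Ω : Type u) [Field Ω] [IsSepClosed Ω] (ξ : Spec (CommRingCat.of Ω) ⟶ X) (t : Fib ξ U),
      germ ξ F t s = germ ξ F t s') : s = s' := by
  refine sect_ext F fun x => ?_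
  obtain ⟨Ω, _, _, ξ, hξ⟩ := exists_geometric_point (U.hom.base x)
  obtain ⟨t, rfl⟩ := exists_fib (ξ := ξ) x (by
    exact ((Set.eq_of_mem_singleton (hξ.le ⟨default, rfl⟩))).symm)
  exact (germ_eq_iff F t s s').1 (h Ω ξ t)

/-- sections agree if their germs agree at one geometric point over each point -/
theorem sect_ext_points (F : EtDesc.Sh X) {U : X.Etale} {s s' : EtDesc.sect F U}
    (h : ∀ x : X, ∃ (Ω : Type u) (_ : Field Ω) (_ : IsSepClosed Ω) (ξ : Spec (CommRingCat.of Ω) ⟶ X),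
      ξ default = x ∧ ∀ t : Fib ξ U, germ ξ F t s = germ ξ F t s') : s = s' := by
  refine sect_ext F fun x => ?_
  obtain ⟨Ω, _, _, ξ, hξ, hg⟩ := h (U.hom.base x)
  obtain ⟨t, rfl⟩ := exists_fib (ξ := ξ) x hξ.symm
  exact (germ_eq_iff F t s s').1 (hg t)

theorem hom_ext_points {F G : EtDesc.Sh X} (a b : F ⟶ G)
    (h : ∀ x : X, ∃ (Ω : Type u) (_ : Field Ω) (_ : IsSepClosed Ω) (ξ : Spec (CommRingCat.of Ω) ⟶ X),
      ξ default = x ∧ (stalk ξ).map a = (stalk ξ).map b) : a = b := by
  refine Sheaf.hom_ext ?_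
  ext U s
  refine sect_ext_points G fun x => ?_
  obtain ⟨Ω, i₁, i₂, ξ, hξ, e⟩ := h x
  refine ⟨Ω, i₁, i₂, ξ, hξ, fun t => ?_⟩
  exact ((stalk_map_germ a t s).symm.trans (ConcreteCategory.congr_hom e _)).trans (stalk_map_germ b t s)

theorem isIso_of_stalk_points {F G : EtDesc.Sh X} (α : F ⟶ G)
    (h : ∀ x : X, ∃ (Ω : Type u) (_ : Field Ω) (_ : IsSepClosed Ω) (ξ : Spec (CommRingCat.of Ω) ⟶ X),
      ξ default = x ∧ IsIso ((stalk ξ).map α)) : IsIso α := by
  have hinj : ∀ U : X.Etale, Function.Injective (α.hom.app (op U)) := fun U s s' hs =>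
    sect_ext_points F fun x => by
      obtain ⟨Ω, i₁, i₂, ξ, hξ, hi⟩ := h x
      refine ⟨Ω, i₁, i₂, ξ, hξ, fun t => ((isIso_iff_bijective ((stalk ξ).map α)).1 hi).1 ?_⟩
      rw [stalk_map_germ, stalk_map_germ]; exact congrArg _ hs
  have : Sheaf.IsLocallySurjective α := ⟨fun {U} s => (mem_topology_iff _).2 fun x => by
    obtain ⟨Ω, i₁, i₂, ξ, hξ, hi⟩ := h (U.hom.base x)
    obtain ⟨t, rfl⟩ := exists_fib (ξ := ξ) x hξ.symm
    obtain ⟨p, hp⟩ := ((isIso_iff_bijective ((stalk ξ).map α)).1 hi).2 (germ ξ G t s)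
    obtain ⟨V, v, r, rfl⟩ := germ_surjective F p
    rw [stalk_map_germ] at hp
    obtain ⟨⟨W, w⟩, ⟨a, ha⟩, ⟨b, hb⟩, -⟩ :=
      IsCofilteredOrEmpty.cone_objs (Functor.elementsMk (Scheme.pointSmallEtale ξ).fiber U t)
        (Functor.elementsMk (Scheme.pointSmallEtale ξ).fiber V v)
    have e : germ ξ G w (G.obj.map a.op s) = germ ξ G w (α.hom.app (op W) (F.obj.map b.op r)) := by
      rw [germ_map, NatTrans.naturality_apply α.hom b.op r, germ_map, ha, hb, hp]
    obtain ⟨W', k, w', hk, hh⟩ := (germ_eq_iff G w _ _).1 e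
    refine ⟨W', k ≫ a, w', ⟨F.obj.map (k ≫ b).op r, ?_⟩, ?_⟩
    · rw [op_comp, Functor.map_comp, ConcreteCategory.comp_apply, NatTrans.naturality_apply α.hom k.op,
        ← hh, op_comp, Functor.map_comp, ConcreteCategory.comp_apply]
    · exact (congrArg a.left.base hk).trans ((map_fpt a w).symm.trans (congrArg fpt ha))⟩
  haveI : Epi α := Sheaf.epi_of_isLocallySurjective α
  haveI : ∀ U, Mono (α.hom.app U) := fun U => (mono_iff_injective _).2 (hinj U.unop)
  haveI : Mono ((sheafToPresheaf _ _).map α) := NatTrans.mono_of_mono_app α.hom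
  haveI : Mono α := (sheafToPresheaf _ _).mono_of_mono_map this
  exact isIso_of_mono_of_epi α

theorem mono_of_stalk {F G : EtDesc.Sh X} (α : F ⟶ G)
    (h : ∀ (Ω : Type u) [Field Ω] [IsSepClosed Ω] (ξ : Spec (CommRingCat.of Ω) ⟶ X),
      Function.Injective ((stalk ξ).map α)) : Mono α := by
  have : ∀ U, Function.Injective (α.hom.app U) := fun U s s' hs =>
    sect_ext_germ F fun Ω _ _ ξ t => h Ω ξ (by
      rw [stalk_map_germ, stalk_map_germ]; exact congrArg _ hs)
  have : ∀ U, Mono (α.hom.app U) := fun U => (mono_iff_injective _).2 (this U)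
  have : ∀ U, Mono (((sheafToPresheaf X.smallEtaleTopology (Type (u + 1))).map α).app U) := this
  have : Mono ((sheafToPresheaf _ _).map α) := NatTrans.mono_of_mono_app _
  exact (sheafToPresheaf _ _).mono_of_mono_map this

theorem epi_of_stalk {F G : EtDesc.Sh X} (α : F ⟶ G)
    (h : ∀ (Ω : Type u) [Field Ω] [IsSepClosed Ω] (ξ : Spec (CommRingCat.of Ω) ⟶ X),
      Function.Surjective ((stalk ξ).map α)) : Epi α := by
  have : Sheaf.IsLocallySurjective α := ⟨fun {U} s => (mem_topology_iff _).2 fun x => by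
    obtain ⟨Ω, _, _, ξ, hξ⟩ := exists_geometric_point (U.hom.base x)
    obtain ⟨t, rfl⟩ := exists_fib (ξ := ξ) x
      (Set.eq_of_mem_singleton (hξ.le ⟨default, rfl⟩)).symm
    obtain ⟨p, hp⟩ := h Ω ξ (germ ξ G t s)
    obtain ⟨V, v, r, rfl⟩ := germ_surjective F p
    rw [stalk_map_germ] at hp
    obtain ⟨W, a, b, w, ha, hb, hw⟩ : ∃ (W : X.Etale) (a : W ⟶ U) (b : W ⟶ V) (w : Fib ξ W),
        (Scheme.pointSmallEtale ξ).fiber.map a w = t ∧ (Scheme.pointSmallEtale ξ).fiber.map b w = v ∧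
          G.obj.map a.op s = α.hom.app (op W) (F.obj.map b.op r) := by
      obtain ⟨⟨W, w⟩, ⟨a, ha⟩, ⟨b, hb⟩, -⟩ :=
        IsCofilteredOrEmpty.cone_objs (Functor.elementsMk (Scheme.pointSmallEtale ξ).fiber U t)
          (Functor.elementsMk (Scheme.pointSmallEtale ξ).fiber V v)
      have e : germ ξ G w (G.obj.map a.op s) = germ ξ G w (α.hom.app (op W) (F.obj.map b.op r)) := by
        rw [germ_map, NatTrans.naturality_apply α.hom b.op r, germ_map, ha, hb, hp]
      obtain ⟨W', k, w', hk, hh⟩ := (germ_eq_iff G w _ _).1 e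
      obtain ⟨u, hu⟩ := exists_fib_map k w' w hk
      refine ⟨W', k ≫ a, k ≫ b, u, ?_, ?_, ?_⟩
      · rw [Functor.map_comp_apply, hu]; exact ha
      · rw [Functor.map_comp_apply, hu]; exact hb
      · rw [op_comp, Functor.map_comp, ConcreteCategory.comp_apply, hh,
          ← NatTrans.naturality_apply α.hom k.op]
        simp
    exact ⟨W, a, fpt w, ⟨_, hw.symm⟩, by rw [← map_fpt, ha]⟩⟩
  exact Sheaf.epi_of_isLocallySurjective α

theorem app_injective_of_mono {F G : EtDesc.Sh X} (α : F ⟶ G) [Mono α] (U : X.Etaleᵒᵖ) :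
    Function.Injective (α.hom.app U) :=
  (mono_iff_injective _).1
    (inferInstanceAs (Mono (((sheafToPresheaf _ _).map α).app U)))

theorem stalk_map_injective {F G : EtDesc.Sh X} (α : F ⟶ G) [Mono α] {Ω : Type u} [Field Ω]
    [IsSepClosed Ω] {ξ : Spec (CommRingCat.of Ω) ⟶ X} : Function.Injective ((stalk ξ).map α) := by
  intro p q hpq
  obtain ⟨U, t, s, rfl⟩ := germ_surjective F p
  obtain ⟨V, v, r, rfl⟩ := germ_surjective F q
  obtain ⟨⟨W, w⟩, ⟨a, ha⟩, ⟨b, hb⟩, -⟩ :=
    IsCofilteredOrEmpty.cone_objs (Functor.elementsMk (Scheme.pointSmallEtale ξ).fiber U t)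
      (Functor.elementsMk (Scheme.pointSmallEtale ξ).fiber V v)
  change (Scheme.pointSmallEtale ξ).fiber.map a w = t at ha
  change (Scheme.pointSmallEtale ξ).fiber.map b w = v at hb
  rw [← ha, ← hb, ← germ_map, ← germ_map] at hpq ⊢
  rw [stalk_map_germ, stalk_map_germ, germ_eq_iff] at hpq
  obtain ⟨W', g, w', hw, h⟩ := hpq
  rw [← NatTrans.naturality_apply α.hom g.op, ← NatTrans.naturality_apply α.hom g.op] at h
  exact (germ_eq_iff F w _ _).2 ⟨W', g, w', hw, app_injective_of_mono α _ h⟩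

theorem isIso_of_stalk {F G : EtDesc.Sh X} (α : F ⟶ G)
    (h : ∀ (Ω : Type u) [Field Ω] [IsSepClosed Ω] (ξ : Spec (CommRingCat.of Ω) ⟶ X),
      IsIso ((stalk ξ).map α)) : IsIso α := by
  have hb := fun (Ω : Type u) (_ : Field Ω) (_ : IsSepClosed Ω) (ξ : Spec (CommRingCat.of Ω) ⟶ X) =>
    (ConcreteCategory.isIso_iff_bijective ((stalk ξ).map α)).1 (h Ω ξ)
  have := mono_of_stalk α fun Ω _ _ ξ => (hb Ω _ _ ξ).1
  have := epi_of_stalk α fun Ω _ _ ξ => (hb Ω _ _ ξ).2
  exact isIso_of_mono_of_epi α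

end


variable {X Y : Scheme.{u}} (f : X ⟶ Y)

/-- stalks of the inverse image of sheaves of sets -/
def stalkPullShIso {Ω : Type u} [Field Ω] [IsSepClosed Ω] (ξ : Spec (CommRingCat.of Ω) ⟶ X) :
    EtDesc.pullSh f ⋙ stalk ξ ≅ stalk (ξ ≫ f) :=
  ((Scheme.pointSmallEtale ξ).sheafFiberComapIso (EtCoh.bc f) (EtCoh.coverPreserving_bc f)
      (Type (u + 1))).symm ≪≫
    { hom := (comapPointIso f ξ).inv.sheafFiber
      inv := (comapPointIso f ξ).hom.sheafFiber
      hom_inv_id := by rw [← GrothendieckTopology.Point.Hom.sheafFiber_comp, Iso.hom_inv_id,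
        GrothendieckTopology.Point.Hom.sheafFiber_id]
      inv_hom_id := by rw [← GrothendieckTopology.Point.Hom.sheafFiber_comp, Iso.inv_hom_id,
        GrothendieckTopology.Point.Hom.sheafFiber_id] }

/-- the geometric point of a point -/
def geomPt {S : Scheme.{u}} (s : S) :
    Spec (CommRingCat.of (SeparableClosure (S.residueField s))) ⟶ S :=
  (Scheme.SpecToEquivOfField (SeparableClosure (S.residueField s)) _).2
    ⟨s, CommRingCat.ofHom (algebraMap (S.residueField s) _)⟩

lemma geomPt_default {S : Scheme.{u}} (s : S) : (geomPt s) default = s := by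
  simp [geomPt, Scheme.SpecToEquivOfField]

variable [Surjective f]

theorem stalk_map_bijective_image {F G : EtDesc.Sh Y} (φ : F ⟶ G)
    (h : ∀ (Ω : Type u) [Field Ω] [IsSepClosed Ω] (ξ : Spec (CommRingCat.of Ω) ⟶ X),
      IsIso ((stalk (ξ ≫ f)).map φ)) : IsIso φ := by
  refine isIso_of_stalk_points φ fun y => ?_
  obtain ⟨x, rfl⟩ := f.surjective y
  exact ⟨_, inferInstance, inferInstance, geomPt x ≫ f, by rw [Scheme.Hom.comp_apply, geomPt_default], h _ _⟩

theorem pullSh_reflectsIsomorphisms : (EtDesc.pullSh f).ReflectsIsomorphisms where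
  reflects {F G} φ _ := stalk_map_bijective_image f φ fun Ω _ _ ξ =>
    (NatIso.isIso_map_iff (stalkPullShIso f ξ) φ).1
      (inferInstanceAs (IsIso ((stalk ξ).map ((EtDesc.pullSh f).map φ))))

theorem pullSh_faithful : (EtDesc.pullSh f).Faithful where
  map_injective {F G} a b h := by
    refine hom_ext_points a b fun y => ?_
    obtain ⟨x, rfl⟩ := f.surjective y
    refine ⟨_, inferInstance, inferInstance, geomPt x ≫ f, by rw [Scheme.Hom.comp_apply, geomPt_default], ?_⟩
    rw [← cancel_epi ((stalkPullShIso f (geomPt x)).hom.app F)]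
    exact (((stalkPullShIso f (geomPt x)).hom.naturality a).symm.trans
      (congrArg (fun m => (stalk (geomPt x)).map m ≫ _) h)).trans ((stalkPullShIso f (geomPt x)).hom.naturality b)

end Groth.Agent.EtShSet
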