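import Groth.Agent.EtSh.ClosedPush
import Groth.Agent.EtShSet.Stalks

/-! # Direct images of etale sheaves of sets along closed immersions -/

set_option autoImplicit false
set_option linter.all false
set_option backward.isDefEq.respectTransparency.types false

noncomputable section

universe u

open CategoryTheory CategoryTheory.Limits AlgebraicGeometry Opposite

namespace Groth.Agent.EtShSet

open Groth.Agent.EtSh (fibBC Fib fpt hom_fpt map_fpt exists_fib exists_fib_map mem_topology_iff openObj openHom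
  fpt_mem_openObj bc_fst_map exists_open_preimage exists_nbhd isEmpty_bc)

variable {Z X : Scheme.{u}} (i : Z ⟶ X)

theorem comap_hom_germ {Ω : Type u} [Field Ω] [IsSepClosed Ω] (ξ : Spec (CommRingCat.of Ω) ⟶ Z)
    (F : EtDesc.Sh X) {V : X.Etale} (t : Fib ξ ((EtCoh.bc i).obj V)) :
    ((Scheme.pointSmallEtale ξ).comap (EtCoh.bc i) (EtCoh.coverPreserving_bc i)).toPresheafFiber V t
        F.obj ≫ ((Scheme.pointSmallEtale ξ).sheafFiberComapIso (EtCoh.bc i)
          (EtCoh.coverPreserving_bc i) (Type (u + 1))).hom.app F =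
      ((EtDesc.adjSh i).unit.app F).hom.app (op V) ≫ germ ξ ((EtDesc.pullSh i).obj F) t := by
  let Φ := Scheme.pointSmallEtale ξ
  let Ψ := Φ.comap (EtCoh.bc i) (EtCoh.coverPreserving_bc i)
  let adj := (EtDesc.adjSh i).comp (Φ.skyscraperSheafAdjunction (A := Type (u + 1)))
  have h : ((Φ.sheafFiberComapIso (EtCoh.bc i) (EtCoh.coverPreserving_bc i)
        (Type (u + 1))).hom.app F) =
      (Ψ.skyscraperSheafAdjunction.homEquiv F _).symm (adj.unit.app F) := by
    rw [Equiv.eq_symm_apply, Adjunction.homEquiv_unit]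
    exact (unit_conjugateEquiv_symm adj Ψ.skyscraperSheafAdjunction
      (Φ.skyscraperSheafFunctorCompSheafPushforwardContinuous (EtCoh.bc i)
        (EtCoh.coverPreserving_bc i) (Type (u + 1))).hom F).symm.trans (Category.comp_id _)
  rw [h]
  erw [Ψ.skyscraperSheafAdjunction_homEquiv_symm_apply]
  erw [Ψ.toPresheafFiber_skyscraperPresheafHomEquiv_symm]
  rw [Adjunction.comp_unit_app]
  change ((EtDesc.adjSh i).unit.app F).hom.app (op V) ≫
    (Φ.skyscraperSheafAdjunction.unit.app ((EtDesc.pullSh i).obj F)).hom.app (op ((EtCoh.bc i).obj V)) ≫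
      Pi.π _ t = _
  refine congrArg (_ ≫ ·) ?_
  rw [← Adjunction.homEquiv_id]
  erw [Φ.skyscraperSheafAdjunction_homEquiv_apply_hom]
  rw [GrothendieckTopology.Point.skyscraperPresheafHomEquiv_apply_app]
  erw [Pi.lift_π]
  exact Category.comp_id _

theorem stalkPullShIso_inv_germ {Ω : Type u} [Field Ω] [IsSepClosed Ω] (ξ : Spec (CommRingCat.of Ω) ⟶ Z)
    (F : EtDesc.Sh X) {V : X.Etale} (t : Fib (ξ ≫ i) V) (s : EtDesc.sect F V) :
    (stalkPullShIso i ξ).inv.app F (germ (ξ ≫ i) F t s) =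
      germ ξ ((EtDesc.pullSh i).obj F) ((fibBC i ξ).inv.app V t)
        (((EtDesc.adjSh i).unit.app F).hom.app (op V) s) := by
  have h2 : germ (ξ ≫ i) F t ≫ (EtSh.comapPointIso i ξ).hom.sheafFiber.app F =
      ((Scheme.pointSmallEtale ξ).comap (EtCoh.bc i) (EtCoh.coverPreserving_bc i)).toPresheafFiber V
        ((fibBC i ξ).inv.app V t) F.obj := by
    simp only [GrothendieckTopology.Point.Hom.sheafFiber, Functor.whiskerLeft_app,
      GrothendieckTopology.Point.Hom.presheafFiber_app, germ]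
    exact colimit.ι_desc _ _
  have h3 := congrArg (fun k => (ConcreteCategory.hom k) s) (comap_hom_germ i ξ F ((fibBC i ξ).inv.app V t))
  have h4 := congrArg (fun k => (ConcreteCategory.hom k) s) h2
  simp only [ConcreteCategory.comp_apply] at h3 h4
  exact (congrArg (ConcreteCategory.hom (((Scheme.pointSmallEtale ξ).sheafFiberComapIso (EtCoh.bc i)
    (EtCoh.coverPreserving_bc i) (Type (u + 1))).hom.app F)) h4).trans h3

/-- sections over an empty object are unique -/
theorem subsingleton_of_isEmpty (F : EtDesc.Sh X) (V : X.Etale) (h : IsEmpty V.left) :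
    Subsingleton (EtDesc.sect F V) :=
  ⟨fun a b => sect_ext F fun x => (h.false x).elim⟩

theorem nonempty_of_isEmpty (F : EtDesc.Sh X) (V : X.Etale) (h : IsEmpty V.left) :
    Nonempty (EtDesc.sect F V) := by
  have hs := (((isSheaf_iff_isSheaf_of_type _ _).1 F.property) (⊥ : Sieve V)
    ((mem_topology_iff _).2 fun x => (h.false x).elim))
  exact ⟨(hs (fun _ _ hf => hf.elim) (fun _ _ _ _ _ _ _ hf => hf.elim)).choose⟩

theorem fpt_fst {Ω : Type u} [Field Ω] [IsSepClosed Ω] (ζ : Spec (CommRingCat.of Ω) ⟶ Z) {V : X.Etale}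
    (w : Fib ζ ((EtCoh.bc i).obj V)) :
    (pullback.fst V.hom i : ((EtCoh.bc i).obj V).left ⟶ V.left) (fpt w) = fpt ((fibBC i ζ).hom.app V w) :=
  rfl

theorem fib_inv_hom {Ω : Type u} [Field Ω] [IsSepClosed Ω] (ζ : Spec (CommRingCat.of Ω) ⟶ Z) {V : X.Etale}
    (t : Fib (ζ ≫ i) V) : (fibBC i ζ).hom.app V ((fibBC i ζ).inv.app V t) = t :=
  ((fibBC i ζ).app V).toEquiv.apply_symm_apply t

variable [IsClosedImmersion i]

/-- comparison of stalks of a direct image -/
def pushStalkMap {Ω : Type u} [Field Ω] [IsSepClosed Ω] (ζ : Spec (CommRingCat.of Ω) ⟶ Z) (G : EtDesc.Sh Z) :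
    (stalk (ζ ≫ i)).obj ((EtDesc.pushSh i).obj G) ⟶ (stalk ζ).obj G :=
  (stalkPullShIso i ζ).inv.app ((EtDesc.pushSh i).obj G) ≫ (stalk ζ).map ((EtDesc.adjSh i).counit.app G)

omit [IsClosedImmersion i] in
theorem pushStalkMap_germ {Ω : Type u} [Field Ω] [IsSepClosed Ω] (ζ : Spec (CommRingCat.of Ω) ⟶ Z) (G : EtDesc.Sh Z)
    {V : X.Etale} (t : Fib (ζ ≫ i) V) (r : EtDesc.sect ((EtDesc.pushSh i).obj G) V) :
    pushStalkMap i ζ G (germ (ζ ≫ i) ((EtDesc.pushSh i).obj G) t r) =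
      germ ζ G ((fibBC i ζ).inv.app V t) r := by
  rw [pushStalkMap, ConcreteCategory.comp_apply, stalkPullShIso_inv_germ, stalk_map_germ]
  refine congrArg _ ?_
  exact congrArg (fun k : (EtDesc.pushSh i).obj G ⟶ (EtDesc.pushSh i).obj G => k.hom.app (op V) r)
    ((EtDesc.adjSh i).right_triangle_components G)

theorem bijective_pushStalkMap {Ω : Type u} [Field Ω] [IsSepClosed Ω] (ζ : Spec (CommRingCat.of Ω) ⟶ Z)
    (G : EtDesc.Sh Z) : Function.Bijective (pushStalkMap i ζ G) := by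
  refine ⟨fun p q hpq => ?_, fun p => ?_⟩
  · obtain ⟨V₁, t₁, r₁, rfl⟩ := germ_surjective _ p
    obtain ⟨V₂, t₂, r₂, rfl⟩ := germ_surjective _ q
    obtain ⟨⟨V, t⟩, ⟨a, ha⟩, ⟨b, hb⟩, -⟩ :=
      IsCofilteredOrEmpty.cone_objs (Functor.elementsMk (Scheme.pointSmallEtale (ζ ≫ i)).fiber V₁ t₁)
        (Functor.elementsMk (Scheme.pointSmallEtale (ζ ≫ i)).fiber V₂ t₂)
    change (Scheme.pointSmallEtale (ζ ≫ i)).fiber.map a t = t₁ at ha
    change (Scheme.pointSmallEtale (ζ ≫ i)).fiber.map b t = t₂ at hb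
    rw [← ha, ← hb, ← germ_map, ← germ_map] at hpq ⊢
    generalize ((EtDesc.pushSh i).obj G).obj.map a.op r₁ = r at hpq ⊢
    generalize ((EtDesc.pushSh i).obj G).obj.map b.op r₂ = r' at hpq ⊢
    rw [pushStalkMap_germ, pushStalkMap_germ] at hpq
    let w : Fib ζ ((EtCoh.bc i).obj V) := (fibBC i ζ).inv.app V t
    obtain ⟨W, g, p, hp, hrr⟩ := (germ_eq_iff G w r r').1 hpq
    haveI : Etale g.left := MorphismProperty.of_postcomp (W := EtCoh.etaleMP) (W' := EtCoh.etaleMP)
      g.left ((EtCoh.bc i).obj V).hom ((EtCoh.bc i).obj V).prop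
      (by rw [MorphismProperty.Over.w g]; exact W.prop)
    let O : ((EtCoh.bc i).obj V).left.Opens := ⟨Set.range g.left.base, g.left.isOpenMap.isOpen_range⟩
    obtain ⟨O', hO'⟩ := exists_open_preimage i V O
    have hfst : (pullback.fst V.hom i : ((EtCoh.bc i).obj V).left ⟶ V.left) (fpt w) = fpt t :=
      (fpt_fst i ζ w).trans (congrArg fpt (fib_inv_hom i ζ t))
    have ht : fpt t ∈ O' := by
      rw [← hfst]
      exact (congrArg (fun U : ((EtCoh.bc i).obj V).left.Opens => fpt w ∈ U) hO').mpr ⟨p, hp⟩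
    obtain ⟨t', ht'⟩ := fpt_mem_openObj O' t ht
    refine (germ_eq_iff _ t r r').2 ⟨openObj V O', openHom V O', fpt t', ?_, ?_⟩
    · rw [← map_fpt, ht']
    · refine sect_ext_points G (U := (EtCoh.bc i).obj (openObj V O')) fun z => ?_
      obtain ⟨Ω', i₁, i₂, ξ, hξ⟩ := EtSh.exists_geometric_point z
      refine ⟨Ω', i₁, i₂, ξ, Set.eq_of_mem_singleton (hξ.le ⟨default, rfl⟩), fun s => ?_⟩
      show germ ξ G s (G.obj.map ((EtCoh.bc i).map (openHom V O')).op r) =
        germ ξ G s (G.obj.map ((EtCoh.bc i).map (openHom V O')).op r')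
      rw [germ_map, germ_map]
      have hm : (pullback.fst V.hom i : ((EtCoh.bc i).obj V).left ⟶ V.left)
          (((EtCoh.bc i).map (openHom V O')).left (fpt s)) ∈ O' := by
        rw [bc_fst_map]
        exact ((pullback.fst (openObj V O').hom i : ((EtCoh.bc i).obj (openObj V O')).left ⟶ _) (fpt s)).2
      obtain ⟨v, hv⟩ : ((EtCoh.bc i).map (openHom V O')).left (fpt s) ∈ Set.range g.left.base :=
        (congrArg (fun U : ((EtCoh.bc i).obj V).left.Opens =>
          ((EtCoh.bc i).map (openHom V O')).left (fpt s) ∈ U) hO').mp hm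
      exact (germ_eq_iff G _ r r').2 ⟨W, g, v, hv, hrr⟩
  · obtain ⟨U, t, s, rfl⟩ := germ_surjective G p
    obtain ⟨V, g, v, hv⟩ := exists_nbhd i U (fpt t)
    obtain ⟨w, hw⟩ := exists_fib_map g v t hv
    let r : EtDesc.sect ((EtDesc.pushSh i).obj G) V := G.obj.map g.op s
    refine ⟨germ (ζ ≫ i) _ ((fibBC i ζ).hom.app V w) r, ?_⟩
    have e : (fibBC i ζ).inv.app V ((fibBC i ζ).hom.app V w) = w :=
      ((fibBC i ζ).app V).toEquiv.symm_apply_apply w
    rw [pushStalkMap_germ, e]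
    exact (germ_map G g w s).trans (by rw [hw])

theorem isIso_counit (G : EtDesc.Sh Z) : IsIso ((EtDesc.adjSh i).counit.app G) := by
  refine isIso_of_stalk _ fun Ω _ _ ζ => ?_
  have h : IsIso (pushStalkMap i ζ G) := (isIso_iff_bijective _).2 (bijective_pushStalkMap i ζ G)
  exact @IsIso.of_isIso_comp_left _ _ _ _ _ ((stalkPullShIso i ζ).inv.app ((EtDesc.pushSh i).obj G))
    ((stalk ζ).map ((EtDesc.adjSh i).counit.app G)) inferInstance h

theorem pushSh_full_faithful : (EtDesc.pushSh i).Full ∧ (EtDesc.pushSh i).Faithful := by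
  haveI : ∀ G, IsIso ((EtDesc.adjSh i).counit.app G) := isIso_counit i
  haveI : IsIso (EtDesc.adjSh i).counit := NatIso.isIso_of_isIso_app _
  exact ⟨(EtDesc.adjSh i).fullyFaithfulROfIsIsoCounit.full, (EtDesc.adjSh i).fullyFaithfulROfIsIsoCounit.faithful⟩

/-- stalks of direct images off the closed subscheme are points -/
theorem unique_stalk_push (G : EtDesc.Sh Z) {Ω : Type u} [Field Ω] [IsSepClosed Ω]
    (ξ : Spec (CommRingCat.of Ω) ⟶ X) (hξ : ξ.base default ∉ Set.range i.base) :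
    Nonempty ((stalk ξ).obj ((EtDesc.pushSh i).obj G)) ∧ Subsingleton ((stalk ξ).obj ((EtDesc.pushSh i).obj G)) := by
  have key : ∀ {V : X.Etale} (t : Fib ξ V), ∃ (W : X.Etale) (g : W ⟶ V) (w : Fib ξ W),
      (Scheme.pointSmallEtale ξ).fiber.map g w = t ∧ IsEmpty ((EtCoh.bc i).obj W).left := fun {V} t => by
    let O : V.left.Opens :=
      ⟨V.hom.base ⁻¹' (Set.range i.base)ᶜ, i.isClosedEmbedding.isClosed_range.isOpen_compl.preimage V.hom.continuous⟩
    obtain ⟨t', ht'⟩ := fpt_mem_openObj O t (by show V.hom.base (fpt t) ∉ Set.range i.base; rw [hom_fpt]; exact hξ)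
    exact ⟨_, openHom V O, t', ht', isEmpty_bc i (Set.disjoint_left.2 fun x ⟨y, hy⟩ hx => y.2 (by rw [← hy] at hx; exact hx))⟩
  refine ⟨?_, ⟨fun p q => ?_⟩⟩
  · obtain ⟨W, g, w, -, hW⟩ := key (V := EtCoh.top X) (Over.homMk ξ (Category.comp_id _))
    exact ⟨germ ξ _ w (nonempty_of_isEmpty G _ hW).some⟩
  · obtain ⟨V₁, t₁, r₁, rfl⟩ := germ_surjective _ p
    obtain ⟨V₂, t₂, r₂, rfl⟩ := germ_surjective _ q
    obtain ⟨⟨V, t⟩, ⟨a, ha⟩, ⟨b, hb⟩, -⟩ :=
      IsCofilteredOrEmpty.cone_objs (Functor.elementsMk (Scheme.pointSmallEtale ξ).fiber V₁ t₁)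
        (Functor.elementsMk (Scheme.pointSmallEtale ξ).fiber V₂ t₂)
    change (Scheme.pointSmallEtale ξ).fiber.map a t = t₁ at ha
    change (Scheme.pointSmallEtale ξ).fiber.map b t = t₂ at hb
    obtain ⟨W, g, w, hw, hW⟩ := key t
    rw [← ha, ← hb, ← hw, ← germ_map, ← germ_map, ← germ_map, ← germ_map]
    exact congrArg _ ((subsingleton_of_isEmpty G _ hW).elim _ _)

theorem essImage_iff {U : Scheme.{u}} (j : U ⟶ X) [IsOpenImmersion j]
    (hU : Set.range j.base = (Set.range i.base)ᶜ) (F : EtDesc.Sh X) :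
    (EtDesc.pushSh i).essImage F ↔ IsIso (terminal.from ((EtDesc.pullSh j).obj F)) := by
  have hT : ∀ {Ω : Type u} [Field Ω] [IsSepClosed Ω] (ζ : Spec (CommRingCat.of Ω) ⟶ U),
      Nonempty ((stalk ζ).obj (⊤_ EtDesc.Sh U)) ∧ Subsingleton ((stalk ζ).obj (⊤_ EtDesc.Sh U)) := fun {Ω} _ _ ζ => by
    haveI : ∀ V : U.Etale, PreservesLimitsOfSize.{0, 0} ((sheafSections U.smallEtaleTopology (Type (u + 1))).obj (op V)) :=
      fun V => inferInstanceAs (PreservesLimitsOfSize.{0, 0} (sheafToPresheaf U.smallEtaleTopology (Type (u + 1)) ⋙ (evaluation _ _).obj (op V)))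
    have u : ∀ V : U.Etale, Unique (EtDesc.sect (⊤_ EtDesc.Sh U) V) := fun V => Types.isTerminalEquivUnique _
      (IsTerminal.isTerminalObj ((sheafSections U.smallEtaleTopology (Type (u + 1))).obj (op V)) _ terminalIsTerminal)
    refine ⟨⟨germ ζ _ (U := EtCoh.top U) (Over.homMk ζ (Category.comp_id _)) (u _).default⟩, ⟨fun p q => ?_⟩⟩
    obtain ⟨V₁, t₁, r₁, rfl⟩ := germ_surjective _ p
    obtain ⟨V₂, t₂, r₂, rfl⟩ := germ_surjective _ q
    obtain ⟨⟨V, t⟩, ⟨a, ha⟩, ⟨b, hb⟩, -⟩ :=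
      IsCofilteredOrEmpty.cone_objs (Functor.elementsMk (Scheme.pointSmallEtale ζ).fiber V₁ t₁)
        (Functor.elementsMk (Scheme.pointSmallEtale ζ).fiber V₂ t₂)
    change (Scheme.pointSmallEtale ζ).fiber.map a t = t₁ at ha
    change (Scheme.pointSmallEtale ζ).fiber.map b t = t₂ at hb
    rw [← ha, ← hb, ← germ_map, ← germ_map]
    haveI := u V
    exact congrArg _ (Subsingleton.elim (α := EtDesc.sect (⊤_ EtDesc.Sh U) V) _ _)
  constructor
  · rintro ⟨G, ⟨e⟩⟩
    refine isIso_of_stalk _ fun Ω _ _ ζ => ?_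
    rw [isIso_iff_bijective]
    have hξ : (ζ ≫ j).base default ∉ Set.range i.base := by
      have : (ζ ≫ j).base default ∈ Set.range j.base := ⟨ζ.base default, rfl⟩
      rwa [hU] at this
    let c : (stalk ζ).obj ((EtDesc.pullSh j).obj F) ≃ (stalk (ζ ≫ j)).obj ((EtDesc.pushSh i).obj G) :=
      ((stalkPullShIso j ζ).app F ≪≫ (stalk (ζ ≫ j)).mapIso e.symm).toEquiv
    obtain ⟨⟨x⟩, h₁⟩ := unique_stalk_push i G (ζ ≫ j) hξ
    haveI := c.subsingleton
    haveI := (hT ζ).2
    exact ⟨fun a b _ => Subsingleton.elim a b, fun y => ⟨c.symm x, Subsingleton.elim _ _⟩⟩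
  · intro h
    haveI : IsIso ((EtDesc.adjSh i).unit.app F) := by
      refine isIso_of_stalk _ fun Ω _ _ ξ => ?_
      by_cases hξ : ξ.base default ∈ Set.range i.base
      · have hrange : Set.range ξ ⊆ Set.range i := by
          rintro _ ⟨y, rfl⟩
          rw [Subsingleton.elim y default]
          exact hξ
        obtain ⟨ζ, rfl⟩ := Groth.Agent.RedSepLib.exists_lift_of_range_subset ξ i hrange
        haveI : IsIso (pushStalkMap i ζ ((EtDesc.pullSh i).obj F)) :=
          (isIso_iff_bijective _).2 (bijective_pushStalkMap i ζ _)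
        have e : (stalk (ζ ≫ i)).map ((EtDesc.adjSh i).unit.app F) ≫
            pushStalkMap i ζ ((EtDesc.pullSh i).obj F) = (stalkPullShIso i ζ).inv.app F := by
          rw [pushStalkMap]
          erw [(stalkPullShIso i ζ).inv.naturality_assoc ((EtDesc.adjSh i).unit.app F)]
          refine (congrArg ((stalkPullShIso i ζ).inv.app F ≫ ·) ?_).trans (Category.comp_id _)
          show (stalk ζ).map ((EtDesc.pullSh i).map ((EtDesc.adjSh i).unit.app F)) ≫
            (stalk ζ).map ((EtDesc.adjSh i).counit.app ((EtDesc.pullSh i).obj F)) = _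
          rw [← Functor.map_comp]
          exact (congrArg (stalk ζ).map ((EtDesc.adjSh i).left_triangle_components F)).trans
            (CategoryTheory.Functor.map_id _ _)
        exact IsIso.of_isIso_fac_right e
      · rw [isIso_iff_bijective]
        obtain ⟨⟨y₀⟩, h₁⟩ := unique_stalk_push i ((EtDesc.pullSh i).obj F) ξ hξ
        have hrange : Set.range ξ ⊆ Set.range j := by
          rintro _ ⟨y, rfl⟩
          rw [Subsingleton.elim y default, hU]
          exact hξ
        obtain ⟨ζ, rfl⟩ : ∃ ζ, ζ ≫ j = ξ := ⟨IsOpenImmersion.lift j ξ hrange, IsOpenImmersion.lift_fac j ξ hrange⟩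
        let c : (stalk (ζ ≫ j)).obj F ≃ (stalk ζ).obj (⊤_ EtDesc.Sh U) :=
          (((stalkPullShIso j ζ).app F).symm ≪≫ (stalk ζ).mapIso (asIso (terminal.from ((EtDesc.pullSh j).obj F)))).toEquiv
        obtain ⟨⟨x⟩, h₂⟩ := hT ζ
        exact ⟨fun a b _ => @Subsingleton.elim _ (haveI := h₂; c.subsingleton) a b, fun y => ⟨c.symm x, @Subsingleton.elim _ h₁ _ _⟩⟩
    exact ⟨(EtDesc.pullSh i).obj F, ⟨(asIso ((EtDesc.adjSh i).unit.app F)).symm⟩⟩

end Groth.Agent.EtShSet
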