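import Groth.Agent.EtSh.ClosedPush
import Groth.Agent.EtShSet.Stalks
import Groth.Agent.EtShSet.ClosedPush

/-! # Direct images of etale sheaves of sets along closed immersions -/

set_option autoImplicit false
set_option linter.all false
set_option backward.isDefEq.respectTransparency.types false

noncomputable section

universe u

open CategoryTheory CategoryTheory.Limits AlgebraicGeometry Opposite

namespace Groth.Agent.EtShSet

open Groth.Agent.EtSh (fibBC Fib fpt hom_fpt map_fpt exists_fib exists_fib_map mem_topology_iff openObj openHom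
  fpt_mem_openObj bc_fst_map  isEmpty_bc)

variable {Z X : Scheme.{u}} (i : Z ⟶ X) [IsOpenImmersion i]

theorem exists_open_preimage_o (V : X.Etale) (O : ((EtCoh.bc i).obj V).left.Opens) :
    ∃ O' : V.left.Opens,
      (pullback.fst V.hom i : ((EtCoh.bc i).obj V).left ⟶ V.left) ⁻¹ᵁ O' = O := by
  obtain ⟨T, hT, hTO⟩ := (pullback.fst V.hom i).isOpenEmbedding.isInducing.isOpen_iff.1 O.2
  exact ⟨⟨T, hT⟩, TopologicalSpace.Opens.ext hTO⟩

theorem exists_nbhd_o (U : Z.Etale) (u : U.left) :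
    ∃ (V : X.Etale) (g : (EtCoh.bc i).obj V ⟶ U) (v : ((EtCoh.bc i).obj V).left), g.left.base v = u := by
  haveI : Etale U.hom := U.prop
  let V : X.Etale := Scheme.Etale.mk (U.hom ≫ i)
  let g : (EtCoh.bc i).obj V ⟶ U := MorphismProperty.Over.homMk (pullback.fst (U.hom ≫ i) i) (by
    rw [← cancel_mono i, Category.assoc]
    exact pullback.condition)
  let l : U.left ⟶ pullback (U.hom ≫ i) i := pullback.lift (𝟙 _) U.hom (Category.id_comp _)
  refine ⟨V, g, l u, ?_⟩
  show (l ≫ pullback.fst (U.hom ≫ i) i) u = u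
  rw [pullback.lift_fst]
  rfl

theorem fpt_fst_o {Ω : Type u} [Field Ω] [IsSepClosed Ω] (ζ : Spec (CommRingCat.of Ω) ⟶ Z) {V : X.Etale}
    (w : Fib ζ ((EtCoh.bc i).obj V)) :
    (pullback.fst V.hom i : ((EtCoh.bc i).obj V).left ⟶ V.left) (fpt w) = fpt ((fibBC i ζ).hom.app V w) :=
  rfl

theorem fib_inv_hom_o {Ω : Type u} [Field Ω] [IsSepClosed Ω] (ζ : Spec (CommRingCat.of Ω) ⟶ Z) {V : X.Etale}
    (t : Fib (ζ ≫ i) V) : (fibBC i ζ).hom.app V ((fibBC i ζ).inv.app V t) = t :=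
  ((fibBC i ζ).app V).toEquiv.apply_symm_apply t


/-- comparison of stalks of a direct image -/
def pushStalkMapO {Ω : Type u} [Field Ω] [IsSepClosed Ω] (ζ : Spec (CommRingCat.of Ω) ⟶ Z) (G : EtDesc.Sh Z) :
    (stalk (ζ ≫ i)).obj ((EtDesc.pushSh i).obj G) ⟶ (stalk ζ).obj G :=
  (stalkPullShIso i ζ).inv.app ((EtDesc.pushSh i).obj G) ≫ (stalk ζ).map ((EtDesc.adjSh i).counit.app G)

theorem pushStalkMapO_germ {Ω : Type u} [Field Ω] [IsSepClosed Ω] (ζ : Spec (CommRingCat.of Ω) ⟶ Z) (G : EtDesc.Sh Z)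
    {V : X.Etale} (t : Fib (ζ ≫ i) V) (r : EtDesc.sect ((EtDesc.pushSh i).obj G) V) :
    pushStalkMapO i ζ G (germ (ζ ≫ i) ((EtDesc.pushSh i).obj G) t r) =
      germ ζ G ((fibBC i ζ).inv.app V t) r := by
  rw [pushStalkMapO, ConcreteCategory.comp_apply, stalkPullShIso_inv_germ, stalk_map_germ]
  refine congrArg _ ?_
  exact congrArg (fun k : (EtDesc.pushSh i).obj G ⟶ (EtDesc.pushSh i).obj G => k.hom.app (op V) r)
    ((EtDesc.adjSh i).right_triangle_components G)

theorem bijective_pushStalkMapO {Ω : Type u} [Field Ω] [IsSepClosed Ω] (ζ : Spec (CommRingCat.of Ω) ⟶ Z)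
    (G : EtDesc.Sh Z) : Function.Bijective (pushStalkMapO i ζ G) := by
  refine ⟨fun p q hpq => ?_, fun p => ?_⟩
  · obtain ⟨V₁, t₁, r₁, rfl⟩ := germ_surjective _ p
    obtain ⟨V₂, t₂, r₂, rfl⟩ := germ_surjective _ q
    obtain ⟨⟨V, t⟩, ⟨a, ha⟩, ⟨b, hb⟩, -⟩ :=
      IsCofilteredOrEmpty.cone_objs (Functor.elementsMk (Scheme.pointSmallEtale (ζ ≫ i)).fiber V₁ t₁)
        (Functor.elementsMk (Scheme.pointSmallEtale (ζ ≫ i)).fiber V₂ t₂)
    change (Scheme.pointSmallEtale (ζ ≫ i)).fiber.map a t = t₁ at ha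
    change (Scheme.pointSmallEtale (ζ ≫ i)).fiber.map b t = t₂ at hb
    rw [← ha, ← hb, ← germ_map, ← germ_map] at hpq ⊢
    generalize ((EtDesc.pushSh i).obj G).obj.map a.op r₁ = r at hpq ⊢
    generalize ((EtDesc.pushSh i).obj G).obj.map b.op r₂ = r' at hpq ⊢
    rw [pushStalkMapO_germ, pushStalkMapO_germ] at hpq
    let w : Fib ζ ((EtCoh.bc i).obj V) := (fibBC i ζ).inv.app V t
    obtain ⟨W, g, p, hp, hrr⟩ := (germ_eq_iff G w r r').1 hpq
    haveI : Etale g.left := MorphismProperty.of_postcomp (W := EtCoh.etaleMP) (W' := EtCoh.etaleMP)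
      g.left ((EtCoh.bc i).obj V).hom ((EtCoh.bc i).obj V).prop
      (by rw [MorphismProperty.Over.w g]; exact W.prop)
    let O : ((EtCoh.bc i).obj V).left.Opens := ⟨Set.range g.left.base, g.left.isOpenMap.isOpen_range⟩
    obtain ⟨O', hO'⟩ := exists_open_preimage_o i V O
    have hfst : (pullback.fst V.hom i : ((EtCoh.bc i).obj V).left ⟶ V.left) (fpt w) = fpt t :=
      (fpt_fst_o i ζ w).trans (congrArg fpt (fib_inv_hom_o i ζ t))
    have ht : fpt t ∈ O' := by
      rw [← hfst]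
      exact (congrArg (fun U : ((EtCoh.bc i).obj V).left.Opens => fpt w ∈ U) hO').mpr ⟨p, hp⟩
    obtain ⟨t', ht'⟩ := fpt_mem_openObj O' t ht
    refine (germ_eq_iff _ t r r').2 ⟨openObj V O', openHom V O', fpt t', ?_, ?_⟩
    · rw [← map_fpt, ht']
    · refine sect_ext_points G (U := (EtCoh.bc i).obj (openObj V O')) fun z => ?_
      obtain ⟨Ω', i₁, i₂, ξ, hξ⟩ := EtSh.exists_geometric_point z
      refine ⟨Ω', i₁, i₂, ξ, Set.eq_of_mem_singleton (hξ.le ⟨default, rfl⟩), fun s => ?_⟩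
      show germ ξ G s (G.obj.map ((EtCoh.bc i).map (openHom V O')).op r) =
        germ ξ G s (G.obj.map ((EtCoh.bc i).map (openHom V O')).op r')
      rw [germ_map, germ_map]
      have hm : (pullback.fst V.hom i : ((EtCoh.bc i).obj V).left ⟶ V.left)
          (((EtCoh.bc i).map (openHom V O')).left (fpt s)) ∈ O' := by
        rw [bc_fst_map]
        exact ((pullback.fst (openObj V O').hom i : ((EtCoh.bc i).obj (openObj V O')).left ⟶ _) (fpt s)).2
      obtain ⟨v, hv⟩ : ((EtCoh.bc i).map (openHom V O')).left (fpt s) ∈ Set.range g.left.base :=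
        (congrArg (fun U : ((EtCoh.bc i).obj V).left.Opens =>
          ((EtCoh.bc i).map (openHom V O')).left (fpt s) ∈ U) hO').mp hm
      exact (germ_eq_iff G _ r r').2 ⟨W, g, v, hv, hrr⟩
  · obtain ⟨U, t, s, rfl⟩ := germ_surjective G p
    obtain ⟨V, g, v, hv⟩ := exists_nbhd_o i U (fpt t)
    obtain ⟨w, hw⟩ := exists_fib_map g v t hv
    let r : EtDesc.sect ((EtDesc.pushSh i).obj G) V := G.obj.map g.op s
    refine ⟨germ (ζ ≫ i) _ ((fibBC i ζ).hom.app V w) r, ?_⟩
    have e : (fibBC i ζ).inv.app V ((fibBC i ζ).hom.app V w) = w :=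
      ((fibBC i ζ).app V).toEquiv.symm_apply_apply w
    rw [pushStalkMapO_germ, e]
    exact (germ_map G g w s).trans (by rw [hw])

theorem isIso_counit_of_open (G : EtDesc.Sh Z) : IsIso ((EtDesc.adjSh i).counit.app G) := by
  refine isIso_of_stalk _ fun Ω _ _ ζ => ?_
  have h : IsIso (pushStalkMapO i ζ G) := (isIso_iff_bijective _).2 (bijective_pushStalkMapO i ζ G)
  exact @IsIso.of_isIso_comp_left _ _ _ _ _ ((stalkPullShIso i ζ).inv.app ((EtDesc.pushSh i).obj G))
    ((stalk ζ).map ((EtDesc.adjSh i).counit.app G)) inferInstance h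


end Groth.Agent.EtShSet
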