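import Groth.Agent.EtShSet.Stalks
import Groth.Prelude.Def_BigSite

/-! # Direct image reflects monos and epis under condition (C) -/

set_option autoImplicit false
set_option linter.all false
set_option backward.isDefEq.respectTransparency false
set_option backward.defeqAttrib.useBackward true

universe u

open CategoryTheory CategoryTheory.Limits AlgebraicGeometry Opposite

namespace Groth.Agent.EtShSet

open Groth.Agent.EtSh (mem_topology_iff)

variable {X Y : Scheme.{u}} (f : X ⟶ Y)

lemma exists_bc_cover (hC : BigSite.PropC f) (U : X.Etale) :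
    ∃ (V : Y.Etale) (h : (EtCoh.bc f).obj V ⟶ U), Surjective h.left := by
  haveI : Etale U.hom := U.prop
  obtain ⟨V, v, hv, k, hk, hks⟩ := hC U.left U.hom
  let k' : pullback v f ⟶ U.left := (pullbackSymmetry v f).hom ≫ k
  refine ⟨MorphismProperty.Over.mk ⊤ v hv, MorphismProperty.Over.homMk k' ?_, ?_⟩
  · show ((pullbackSymmetry v f).hom ≫ k) ≫ U.hom = pullback.snd v f
    rw [Category.assoc, hk, pullbackSymmetry_hom_comp_fst]
  · show Surjective ((pullbackSymmetry v f).hom ≫ k)
    haveI := hks
    infer_instance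

lemma pullback_mem {V : Y.Etale} (R : Sieve V) (hR : R ∈ Y.smallEtaleTopology V) (x : ((EtCoh.bc f).obj V).left) :
    ∃ (W : Y.Etale) (g : W ⟶ V) (w : ((EtCoh.bc f).obj W).left), R g ∧ ((EtCoh.bc f).map g).left.base w = x := by
  have := (EtCoh.coverPreserving_bc f).cover_preserve hR
  obtain ⟨W', g', w', ⟨W, g, k, hg, rfl⟩, hw⟩ := (mem_topology_iff _).1 this x
  exact ⟨W, g, k.left.base w', hg, hw⟩

theorem pushSh_reflects (hC : BigSite.PropC f) :
    (EtDesc.pushSh f).ReflectsMonomorphisms ∧ (EtDesc.pushSh f).ReflectsEpimorphisms := by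
  refine ⟨⟨fun {F G} φ hφ => ?_⟩, ⟨fun {F G} φ hφ => ?_⟩⟩
  · haveI : ∀ U, Mono (φ.hom.app U) := fun ⟨U⟩ => (mono_iff_injective _).2 fun a b hab => by
      obtain ⟨V, h, hs⟩ := exists_bc_cover f hC U
      have e : F.obj.map h.op a = F.obj.map h.op b := by
        refine app_injective_of_mono ((EtDesc.pushSh f).map φ) (op V) ?_
        show φ.hom.app (op ((EtCoh.bc f).obj V)) _ = φ.hom.app (op ((EtCoh.bc f).obj V)) _
        rw [NatTrans.naturality_apply φ.hom h.op, NatTrans.naturality_apply φ.hom h.op]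
        exact congrArg _ hab
      refine sect_ext F fun x => ?_
      obtain ⟨w, hw⟩ := h.left.surjective x
      exact ⟨_, h, w, hw, e⟩
    haveI : Mono ((sheafToPresheaf _ _).map φ) := NatTrans.mono_of_mono_app φ.hom
    exact (sheafToPresheaf _ _).mono_of_mono_map this
  · haveI : Sheaf.IsLocallySurjective ((EtDesc.pushSh f).map φ) :=
      (Sheaf.isLocallySurjective_iff_epi _).2 hφ
    have : Sheaf.IsLocallySurjective φ := ⟨fun {U} s => (mem_topology_iff _).2 fun x => by
      obtain ⟨V, h, hs⟩ := exists_bc_cover f hC U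
      obtain ⟨v, rfl⟩ := h.left.surjective x
      obtain ⟨W, g, w, ⟨r, hr⟩, rfl⟩ := pullback_mem f _
        (Presheaf.imageSieve_mem Y.smallEtaleTopology ((EtDesc.pushSh f).map φ).hom (U := op V) (G.obj.map h.op s)) v
      refine ⟨_, (EtCoh.bc f).map g ≫ h, w, ⟨r, ?_⟩, rfl⟩
      rw [op_comp, Functor.map_comp, ConcreteCategory.comp_apply]
      exact hr⟩
    exact Sheaf.epi_of_isLocallySurjective φ

end Groth.Agent.EtShSet
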