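import Groth.Agent.EtShSet.StrictHens

/-! # Etale sheaves of sets over a separably closed field -/

set_option autoImplicit false
set_option linter.all false
set_option backward.isDefEq.respectTransparency false
set_option backward.defeqAttrib.useBackward true

universe u

open CategoryTheory CategoryTheory.Limits AlgebraicGeometry Opposite

namespace Groth.Agent.EtShSet

open Groth.Agent.EtSh (Fib closedPt topFib topTerminal)

variable (R : Type u) [CommRing R] [HenselianLocalRing R] [IsSepClosed (IsLocalRing.ResidueField R)]

theorem isIso_unit_const (S : Type (u + 1)) :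
    IsIso ((constantSheafAdj (Spec (CommRingCat.of R)).smallEtaleTopology (Type (u + 1)) (topTerminal _)).unit.app S) := by
  let X := Spec (CommRingCat.of R)
  let J := X.smallEtaleTopology
  let Φ := Scheme.pointSmallEtale (closedPt R)
  let P : X.Etaleᵒᵖ ⥤ Type (u + 1) := (Functor.const _).obj S
  let F : EtDesc.Sh X := (constantSheaf J (Type (u + 1))).obj S
  let η : P ⟶ F.obj := toSheafify J P
  have hgerm : Function.Bijective (Φ.toPresheafFiber (A := Type (u + 1)) (EtCoh.top X) (topFib R) P) := by
    refine ⟨fun a b h => ?_, fun p => ?_⟩
    · obtain ⟨W, g, w, _, h'⟩ := (GrothendieckTopology.Point.toPresheafFiber_eq_iff' (P := P) Φ _ _ a b).1 h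
      exact h'
    · obtain ⟨U, x, z, rfl⟩ := GrothendieckTopology.Point.toPresheafFiber_jointly_surjective (A := Type (u + 1)) (P := P) Φ p
      obtain ⟨s, hs⟩ := EtSh.exists_section R U x
      refine ⟨z, ?_⟩
      rw [← hs]
      exact Φ.toPresheafFiber_w_apply s (topFib R) P z
  have hη : Function.Bijective (Φ.presheafFiber.map η) := Φ.toPresheafFiber_map_bijective η
  rw [isIso_iff_bijective]
  have e : ∀ s : S, germ (closedPt R) F (topFib R) (η.app (op (EtCoh.top X)) s) =
      Φ.presheafFiber.map η (Φ.toPresheafFiber (EtCoh.top X) (topFib R) P s) := fun s =>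
    (Φ.toPresheafFiber_naturality_apply η (EtCoh.top X) (topFib R) s).symm
  have hu : ⇑((constantSheafAdj J (Type (u + 1)) (topTerminal _)).unit.app S) =
      fun s => η.app (op (EtCoh.top X)) s := by
    ext s
    simp [constantSheafAdj, constantPresheafAdj]
    rfl
  rw [hu]
  exact (Function.Bijective.of_comp_iff' (bijective_germ_top R F) _).1
    (by rw [show (germ (closedPt R) F (topFib R)) ∘ (fun s => η.app (op (EtCoh.top X)) s) = _ from funext e]
        exact hη.comp hgerm)

theorem sections_isEquivalence
    (hpt : ∀ x : Spec (CommRingCat.of R), closedPt R default = x) :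
    ((sheafSections (Spec (CommRingCat.of R)).smallEtaleTopology (Type (u + 1))).obj
      (op (EtCoh.top (Spec (CommRingCat.of R))))).IsEquivalence := by
  let adj := constantSheafAdj (Spec (CommRingCat.of R)).smallEtaleTopology (Type (u + 1)) (topTerminal _)
  haveI : ∀ S, IsIso (adj.unit.app S) := isIso_unit_const R
  haveI : ∀ F, IsIso (adj.counit.app F) := fun F => by
    refine isIso_of_stalk_points _ fun x => ⟨_, inferInstance, inferInstance, closedPt R, hpt x, ?_⟩
    rw [isIso_iff_bijective]
    have h₁ := bijective_germ_top R ((constantSheaf _ (Type (u + 1))).obj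
      (((sheafSections _ (Type (u + 1))).obj (op (EtCoh.top _))).obj F))
    have h₂ := bijective_germ_top R F
    have h₃ : Function.Bijective ((adj.counit.app F).hom.app (op (EtCoh.top _))) := by
      haveI : IsIso (((sheafSections (Spec (CommRingCat.of R)).smallEtaleTopology (Type (u + 1))).obj
          (op (EtCoh.top _))).map (adj.counit.app F)) := by
        have e := adj.right_triangle_components F
        exact IsIso.of_isIso_fac_left e
      exact (isIso_iff_bijective _).1 this
    refine (Function.Bijective.of_comp_iff _ h₁).1 ?_
    have e : ((stalk (closedPt R)).map (adj.counit.app F)) ∘ germ (closedPt R) _ (topFib R) =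
        germ (closedPt R) F (topFib R) ∘ (adj.counit.app F).hom.app (op (EtCoh.top _)) :=
      funext fun s => stalk_map_germ (adj.counit.app F) (topFib R) s
    exact e ▸ h₂.comp h₃
  haveI : IsIso adj.unit := NatIso.isIso_of_isIso_app _
  haveI : IsIso adj.counit := NatIso.isIso_of_isIso_app _
  exact adj.toEquivalence.isEquivalence_inverse

end Groth.Agent.EtShSet
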