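import Groth.Agent.EtSh.StrictHens
import Groth.Agent.EtShSet.Stalks

/-! # Etale sheaves of sets on strictly henselian schemes -/

set_option autoImplicit false
set_option linter.all false
set_option backward.isDefEq.respectTransparency false
set_option backward.defeqAttrib.useBackward true

universe u

open CategoryTheory CategoryTheory.Limits AlgebraicGeometry Opposite

namespace Groth.Agent.EtShSet

open Groth.Agent.EtSh (Fib closedPt topFib exists_section exists_fib_map topTerminal)

variable (R : Type u) [CommRing R] [HenselianLocalRing R] [IsSepClosed (IsLocalRing.ResidueField R)]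

theorem bijective_germ_top (F : EtDesc.Sh (Spec (CommRingCat.of R))) :
    Function.Bijective (germ (closedPt R) F (topFib R)) := by
  refine ⟨fun a b hab => ?_, fun p => ?_⟩
  · obtain ⟨W, g, w, hw, h⟩ := (germ_eq_iff F (topFib R) a b).1 hab
    obtain ⟨t, ht⟩ := exists_fib_map g w (topFib R) hw
    obtain ⟨s, hs⟩ := exists_section R W t
    have e : s ≫ g = 𝟙 _ := (topTerminal _).hom_ext _ _
    have := congrArg (F.obj.map s.op) h
    rw [← ConcreteCategory.comp_apply, ← ConcreteCategory.comp_apply, ← F.obj.map_comp, ← op_comp, e,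
      op_id, F.obj.map_id] at this
    exact this
  · obtain ⟨U, t, r, rfl⟩ := germ_surjective F p
    obtain ⟨s, hs⟩ := exists_section R U t
    exact ⟨F.obj.map s.op r, (germ_map F s (topFib R) r).trans (congrArg (fun t' => germ (closedPt R) F t' r) hs)⟩

theorem mono_epi_iff {X : Scheme.{u}} {F G : EtDesc.Sh X} (v : F ⟶ G) :
    (Mono v ↔ ∀ (Ω : Type u) [Field Ω] [IsSepClosed Ω] (ξ : Spec (CommRingCat.of Ω) ⟶ X),
      Function.Injective ((stalk ξ).map v)) ∧
    (Epi v ↔ ∀ (Ω : Type u) [Field Ω] [IsSepClosed Ω] (ξ : Spec (CommRingCat.of Ω) ⟶ X),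
      Function.Surjective ((stalk ξ).map v)) := by
  refine ⟨⟨fun _ Ω _ _ ξ => stalk_map_injective v, mono_of_stalk v⟩, ⟨fun _ Ω _ _ ξ => ?_, epi_of_stalk v⟩⟩
  haveI : (stalk ξ).IsLeftAdjoint := (Scheme.pointSmallEtale ξ).skyscraperSheafAdjunction.isLeftAdjoint
  exact (epi_iff_surjective _).1 (inferInstance : Epi ((stalk ξ).map v))

end Groth.Agent.EtShSet
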